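import Mathlib

/-!
# Enough injectives in presheaves of modules with large values
-/

set_option autoImplicit false
set_option backward.isDefEq.respectTransparency false
universe u

namespace Groth.Agent.PsModLib

open CategoryTheory Limits Opposite

variable {C : Type (u + 1)} [Category.{u} C] {R : Cᵒᵖ ⥤ RingCat.{u}} (J : ∀ X : Cᵒᵖ, ModuleCat.{u + 1} (R.obj X))

/-- The coinduced presheaf of a family of modules: `Y ↦ Π (g : Y ⟶ X), J X`. -/
noncomputable def coind : PresheafOfModules.{u + 1} R where
  obj Y := ModuleCat.of (R.obj Y) (∀ p : Σ X, (Y ⟶ X), (ModuleCat.restrictScalars (R.map p.2).hom).obj (J p.1))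
  map {Y Y'} f := ModuleCat.ofHom (Y := (ModuleCat.restrictScalars (R.map f).hom).obj
      (ModuleCat.of (R.obj Y') (∀ p : Σ X, (Y' ⟶ X), (ModuleCat.restrictScalars (R.map p.2).hom).obj (J p.1))))
    { toFun := fun x p => (x ⟨p.1, f ≫ p.2⟩ : J p.1)
      map_add' := fun _ _ => rfl
      map_smul' := fun r x => funext fun p => by
        show R.map (f ≫ p.2) r • (x ⟨p.1, f ≫ p.2⟩ : J p.1) = R.map p.2 (R.map f r) • (x ⟨p.1, f ≫ p.2⟩ : J p.1)
        rw [Functor.map_comp]
        rfl }
  map_id Y := ModuleCat.hom_ext (LinearMap.ext fun x => funext fun ⟨X, g⟩ => by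
    show (x ⟨X, 𝟙 Y ≫ g⟩ : J X) = x ⟨X, g⟩
    rw [Category.id_comp])
  map_comp {Y Y' Y''} f g := ModuleCat.hom_ext (LinearMap.ext fun x => funext fun ⟨X, h⟩ => by
    show (x ⟨X, (f ≫ g) ≫ h⟩ : J X) = x ⟨X, f ≫ g ≫ h⟩
    rw [Category.assoc])

theorem coind_injective [∀ X, Injective (J X)] : Injective (coind J) := by
  refine ⟨fun {M N} φ i _ => ?_⟩
  let c : ∀ X, M.obj X ⟶ J X := fun X => ModuleCat.ofHom
    { toFun := fun m => (φ.app X m) ⟨X, 𝟙 X⟩
      map_add' := fun a b => by rw [map_add]; rfl
      map_smul' := fun r m => by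
        rw [map_smul]
        have hr : ∀ y : J X, R.map (𝟙 X) r • y = r • y := fun y => by rw [R.map_id]; rfl
        exact hr _ }
  let d : ∀ X, N.obj X ⟶ J X := fun X => Injective.factorThru (c X) (i.app X)
  have hd : ∀ X m, d X (i.app X m) = (φ.app X m) ⟨X, 𝟙 X⟩ := fun X m =>
    ConcreteCategory.congr_hom (Injective.comp_factorThru (c X) (i.app X)) m
  refine ⟨{ app := fun Y => ModuleCat.ofHom
              { toFun := fun n p => (d p.1 (N.map p.2 n) : J p.1)
                map_add' := fun a b => funext fun p => by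
                  show (d p.1 (N.map p.2 (a + b)) : J p.1) = d p.1 (N.map p.2 a) + d p.1 (N.map p.2 b)
                  rw [map_add]
                  exact map_add (d p.1).hom _ _
                map_smul' := fun r n => funext fun p => by
                  show (d p.1 (N.map p.2 (r • n)) : J p.1) = R.map p.2 r • d p.1 (N.map p.2 n)
                  rw [N.map_smul]
                  exact map_smul (d p.1).hom _ _ }
            naturality := fun {Y Y'} f => ModuleCat.hom_ext (LinearMap.ext fun n => funext fun p => by
              show (d p.1 (N.map p.2 (N.map f n)) : J p.1) = d p.1 (N.map (f ≫ p.2) n)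
              rw [N.map_comp_apply]) }, ?_⟩
  refine PresheafOfModules.hom_ext fun Y => ModuleCat.hom_ext (LinearMap.ext fun m => funext fun ⟨X, g⟩ => ?_)
  show (d X (N.map g (i.app Y m)) : J X) = (φ.app Y m) ⟨X, g⟩
  rw [← PresheafOfModules.naturality_apply, hd, PresheafOfModules.naturality_apply]
  show (φ.app Y m) ⟨X, g ≫ 𝟙 X⟩ = _
  rw [Category.comp_id]

theorem enoughInjectives : EnoughInjectives (PresheafOfModules.{u + 1} R) where
  presentation M := by
    let J : ∀ X : Cᵒᵖ, ModuleCat.{u + 1} (R.obj X) := fun X => Injective.under (M.obj X)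
    let ι : ∀ X, M.obj X ⟶ J X := fun X => Injective.ι (M.obj X)
    let f : M ⟶ coind J :=
      { app := fun Y => ModuleCat.ofHom
          { toFun := fun m p => (ι p.1 (M.map p.2 m) : J p.1)
            map_add' := fun a b => funext fun p => by
              show (ι p.1 (M.map p.2 (a + b)) : J p.1) = ι p.1 (M.map p.2 a) + ι p.1 (M.map p.2 b)
              rw [map_add]
              exact map_add (ι p.1).hom _ _
            map_smul' := fun r m => funext fun p => by
              show (ι p.1 (M.map p.2 (r • m)) : J p.1) = R.map p.2 r • ι p.1 (M.map p.2 m)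
              rw [M.map_smul]
              exact map_smul (ι p.1).hom _ _ }
        naturality := fun {Y Y'} g => ModuleCat.hom_ext (LinearMap.ext fun m => funext fun p => by
          show (ι p.1 (M.map p.2 (M.map g m)) : J p.1) = ι p.1 (M.map (g ≫ p.2) m)
          rw [M.map_comp_apply]) }
    haveI : Mono f := PresheafOfModules.mono_of_injective fun {Y} a b h => by
      have h1 := congrFun h ⟨Y, 𝟙 Y⟩
      have h2 : (ι Y (M.map (𝟙 Y) a) : J Y) = ι Y (M.map (𝟙 Y) b) := h1
      have h3 := (ModuleCat.mono_iff_injective (ι Y)).1 inferInstance h2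
      rwa [M.map_id] at h3
    haveI : ∀ X, Injective (J X) := fun X => inferInstanceAs (Injective (Injective.under (M.obj X)))
    exact ⟨{ J := coind J, injective := coind_injective J, f := f }⟩

end Groth.Agent.PsModLib
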